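import Mathlib
import Cfsg.Prelude.Def_KGroupFacts

/-!
# The Schur multiplier is an isomorphism invariant
-/

set_option autoImplicit false

namespace Cfsg.Agent.Lib.Schur.Congr

open Cfsg

universe u v

theorem isStem_comp_equiv {Γ G G' : Type*} [Group Γ] [Group G] [Group G'] (e : G ≃* G')
    {σ : Γ →* G} (hσ : IsStemExtension σ) : IsStemExtension (e.toMonoidHom.comp σ) := by
  have hker : (e.toMonoidHom.comp σ).ker = σ.ker :=
    MonoidHom.ker_comp_of_injective _ _ e.injective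
  refine ⟨e.surjective.comp hσ.1, ?_, ?_⟩
  · rw [hker]; exact hσ.2.1
  · rw [hker]; exact hσ.2.2

/-- The Schur multiplier transports along isomorphisms of the group. -/
theorem hasSchurMultiplier_of_equiv {G G' : Type u} [Group G] [Group G'] {A : Type v} [CommGroup A]
    (e : G ≃* G') (h : HasSchurMultiplier G A) : HasSchurMultiplier G' A := by
  obtain ⟨⟨Γ, iΓ, fΓ, σ, hσ, ⟨e'⟩⟩, h₂⟩ := h
  refine ⟨⟨Γ, iΓ, fΓ, e.toMonoidHom.comp σ, isStem_comp_equiv e hσ, ?_⟩, ?_⟩
  · have hker : (e.toMonoidHom.comp σ).ker = σ.ker :=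
      MonoidHom.ker_comp_of_injective _ _ e.injective
    exact ⟨(MulEquiv.subgroupCongr hker).trans e'⟩
  · intro Γ' _ _ τ hτ
    have hker : (e.symm.toMonoidHom.comp τ).ker = τ.ker :=
      MonoidHom.ker_comp_of_injective _ _ e.symm.injective
    obtain ⟨π, hπ⟩ := h₂ Γ' (e.symm.toMonoidHom.comp τ) (isStem_comp_equiv e.symm hτ)
    refine ⟨(MulEquiv.subgroupCongr hker).toMonoidHom.comp π, ?_⟩
    exact (MulEquiv.subgroupCongr hker).surjective.comp hπ

end Cfsg.Agent.Lib.Schur.Congr
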